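import Mathlib
import Cfsg.Prelude.Def_Blocks
import Cfsg.Agent.Lib.Helper16.AP3

/-! Project SLB (helper10): `p`-blocks of `SL_n(q)` in the defining characteristic (S4538, S2440).
Definitions only; see `PLAN.md` / `Skel.lean.txt` in this folder. -/

set_option autoImplicit false

namespace Cfsg.Agent.Lib.Helper10.SLB

universe u

/-- `a_K(g) = #{s ∈ S : s g ∈ K}` -/
noncomputable def cnt {G : Type*} [Group G] (S : Subgroup G) (K : Set G) (g : G) : ℕ :=
  Nat.card {s : S // (s : G) * g ∈ K}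

/-- `S ∩ g⁻¹ S g` -/
def sg {G : Type*} [Group G] (S : Subgroup G) (g : G) : Subgroup G :=
  S ⊓ S.comap (MulAut.conj g).toMonoidHom

theorem mem_sg {G : Type*} [Group G] (S : Subgroup G) (g v : G) :
    v ∈ sg S g ↔ v ∈ S ∧ g * v * g⁻¹ ∈ S := Iff.rfl

/-- Robinson's number `ω(K, K') = #{(y, z) ∈ K × K' : z y⁻¹ ∈ S}` -/
noncomputable def omega {G : Type*} [Group G] (S : Subgroup G) (K K' : Set G) : ℕ :=
  Nat.card {yz : G × G // yz.1 ∈ K ∧ yz.2 ∈ K' ∧ yz.2 * yz.1⁻¹ ∈ S}

/-- no non-trivial `p`-element centralises `y` -/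
def PFree {G : Type*} [Group G] (p : ℕ) (y : G) : Prop :=
  ∀ v : G, (∃ k : ℕ, orderOf v = p ^ k) → v * y = y * v → v = 1

/-- the condition of Robinson's theorem S4443 on a class, for `D = ⊥` (verbatim) -/
def Good {G : Type*} [Group G] (p : ℕ) (C : ConjClasses G) : Prop :=
  ∃ x ∈ C.carrier, ¬ p ∣ orderOf x ∧ ∃ Q : Sylow p (Subgroup.centralizer ({x} : Set G)),
    (Q : Subgroup (Subgroup.centralizer ({x} : Set G))).map
      (Subgroup.centralizer ({x} : Set G)).subtype = (⊥ : Subgroup G)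

/-- `K` is closed under conjugation and consists of elements centralised by no non-trivial `p`-element -/
def Adm {G : Type*} [Group G] (p : ℕ) (K : Set G) : Prop :=
  (∀ x y : G, y ∈ K → x * y * x⁻¹ ∈ K) ∧ ∀ y ∈ K, PFree p y

section SL

variable {n : ℕ} {F : Type u} [Field F]

/-- the fixed space of a subgroup of `SL_n(F)` on `F^n` -/
def fixW (D : Subgroup (Matrix.SpecialLinearGroup (Fin n) F)) : Submodule F (Fin n → F) where
  carrier := {w | ∀ d ∈ D, (d : Matrix (Fin n) (Fin n) F).mulVec w = w}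
  add_mem' := by
    intro a b ha hb d hd
    rw [Matrix.mulVec_add, ha d hd, hb d hd]
  zero_mem' := by
    intro d _
    rw [Matrix.mulVec_zero]
  smul_mem' := by
    intro c a ha d hd
    rw [Matrix.mulVec_smul, ha d hd]

theorem mem_fixW (D : Subgroup (Matrix.SpecialLinearGroup (Fin n) F)) (w : Fin n → F) :
    w ∈ fixW D ↔ ∀ d ∈ D, (d : Matrix (Fin n) (Fin n) F).mulVec w = w := Iff.rfl

/-- `U_W`: the elements of `SL_n(F)` acting trivially on `W` and on `F^n / W` -/
def uW (W : Submodule F (Fin n → F)) : Subgroup (Matrix.SpecialLinearGroup (Fin n) F) where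
  carrier := {g | (∀ w ∈ W, (g : Matrix (Fin n) (Fin n) F).mulVec w = w) ∧
    ∀ v : Fin n → F, (g : Matrix (Fin n) (Fin n) F).mulVec v - v ∈ W}
  mul_mem' := by
    rintro a b ⟨ha1, ha2⟩ ⟨hb1, hb2⟩
    refine ⟨?_, ?_⟩
    · intro w hw
      rw [Matrix.SpecialLinearGroup.coe_mul, ← Matrix.mulVec_mulVec, hb1 w hw, ha1 w hw]
    · intro v
      rw [Matrix.SpecialLinearGroup.coe_mul, ← Matrix.mulVec_mulVec]
      have h1 := hb2 v
      have h2 := ha2 v
      have h3 := ha1 _ h1
      rw [Matrix.mulVec_sub] at h3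
      have e : (a : Matrix (Fin n) (Fin n) F).mulVec ((b : Matrix (Fin n) (Fin n) F).mulVec v) - v
          = ((b : Matrix (Fin n) (Fin n) F).mulVec v - v) +
            ((a : Matrix (Fin n) (Fin n) F).mulVec v - v) := by
        have : (a : Matrix (Fin n) (Fin n) F).mulVec ((b : Matrix (Fin n) (Fin n) F).mulVec v)
            = ((b : Matrix (Fin n) (Fin n) F).mulVec v - v) +
              (a : Matrix (Fin n) (Fin n) F).mulVec v := by
          rw [← h3]; abel
        rw [this]; abel
      rw [e]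
      exact W.add_mem h1 h2
  one_mem' := by
    refine ⟨?_, ?_⟩
    · intro w _
      rw [Matrix.SpecialLinearGroup.coe_one, Matrix.one_mulVec]
    · intro v
      rw [Matrix.SpecialLinearGroup.coe_one, Matrix.one_mulVec, sub_self]
      exact W.zero_mem
  inv_mem' := by
    rintro a ⟨ha1, ha2⟩
    have hinv : ∀ v : Fin n → F, ((a⁻¹ : Matrix.SpecialLinearGroup (Fin n) F) :
        Matrix (Fin n) (Fin n) F).mulVec ((a : Matrix (Fin n) (Fin n) F).mulVec v) = v := by
      intro v
      rw [Matrix.mulVec_mulVec, ← Matrix.SpecialLinearGroup.coe_mul, inv_mul_cancel,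
        Matrix.SpecialLinearGroup.coe_one, Matrix.one_mulVec]
    refine ⟨?_, ?_⟩
    · intro w hw
      have := hinv w
      rw [ha1 w hw] at this
      exact this
    · intro v
      set v' := ((a⁻¹ : Matrix.SpecialLinearGroup (Fin n) F) :
        Matrix (Fin n) (Fin n) F).mulVec v with hv'
      have h1 : (a : Matrix (Fin n) (Fin n) F).mulVec v' = v := by
        rw [hv', Matrix.mulVec_mulVec, ← Matrix.SpecialLinearGroup.coe_mul, mul_inv_cancel,
          Matrix.SpecialLinearGroup.coe_one, Matrix.one_mulVec]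
      have h2 := ha2 v'
      rw [h1] at h2
      have : v' - v = -(v - v') := by abel
      rw [this]
      exact W.neg_mem h2

theorem mem_uW (W : Submodule F (Fin n → F)) (g : Matrix.SpecialLinearGroup (Fin n) F) :
    g ∈ uW W ↔ (∀ w ∈ W, (g : Matrix (Fin n) (Fin n) F).mulVec w = w) ∧
      ∀ v : Fin n → F, (g : Matrix (Fin n) (Fin n) F).mulVec v - v ∈ W := Iff.rfl

/-- the matrix `1` with row `0` replaced by `(1, ρ)` -/
def rowMat {m : ℕ} (ρ : Fin m → F) : Matrix (Fin (m + 1)) (Fin (m + 1)) F :=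
  (1 : Matrix (Fin (m + 1)) (Fin (m + 1)) F).updateRow 0 (Fin.cons 1 ρ)

/-- the set of possible characteristic polynomials of elements of `SL_n` -/
def polyT (F : Type u) [Field F] (n : ℕ) : Set (Polynomial F) :=
  {f | f.Monic ∧ f.natDegree = n ∧ f.coeff 0 = (-1) ^ n}

end SL

end Cfsg.Agent.Lib.Helper10.SLB
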